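import Cfsg.Agent.H819.CubeFi24
import Cfsg.Agent.H841.Phi
import Cfsg.Agent.H209.PiSpor.Tools

/-!
# S4324, `Fi24'`, `p = 2` and outer involutions (helper559, task of helper209)

`ni_Fi24_2`. Every involution of `Fi24 = Aut Fi24'` is conjugate to `Phi π` for some `π ∈ S₉`, `π ≠ 1`, where
`Phi : S₉ → Fi24` is generated by transpositions (`H841.Phi`): a product of at most four different commuting
transpositions, which are the first members of an ordered quadruple, and `Fi24'` is transitive on those. So it normalises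
and does not centralise the simple group `Phi(A₉)`.
-/

set_option autoImplicit false

namespace Cfsg.Agent.H559.PiSpor

open Subgroup Cfsg Cfsg.Agent.H216.Pi Cfsg.Agent.H209.PiSpor Equiv
open Cfsg.Agent.R08 Cfsg.Agent.R08.FiTwentyFour Cfsg.Agent.R08.TetBasic Cfsg.Agent.R08.TetTwo
open Cfsg.Agent.H816.OutInv (outer_cases Tri3)
open Cfsg.Agent.H841.Five (Phi Phi_injective Phi_swap_mem_L)
open Cfsg.Agent.H819.CubeFi24 (conj_surjective)
open Cfsg.Spor (Fi24)

universe u

/-! ### Involutions -/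

theorem exists_tet {a b c : Fi24} (ha : a ∈ L) (hb : b ∈ L) (hc : c ∈ L) (nab : a ≠ b) (nac : a ≠ c) (nbc : b ≠ c)
    (ab : Commute a b) (ac : Commute a c) (bc : Commute b c) : ∃ d, IsTet L (a * b * c * d) a b c d := by
  have H := TetBigInst.hyp
  have h1 := H.n3 a ha b hb c hc nab nac nbc ab ac bc
  obtain ⟨d, hd, d1, d2, d3, d4, d5, d6⟩ :
      {d | d ∈ L ∧ d ≠ a ∧ d ≠ b ∧ d ≠ c ∧ Commute d a ∧ Commute d b ∧ Commute d c}.Nonempty := by
    apply Set.nonempty_of_ncard_ne_zero
    rw [h1]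
    norm_num
  exact ⟨d, ha, hb, hc, hd, ab, ac, d4.symm, bc, d5.symm, d6.symm, nab, nac, d1.symm, nbc, d2.symm, d3.symm, rfl⟩

theorem exists_tet2 {a b : Fi24} (ha : a ∈ L) (hb : b ∈ L) (nab : a ≠ b) (ab : Commute a b) :
    ∃ c d, IsTet L (a * b * c * d) a b c d := by
  have H := TetBigInst.hyp
  have h1 := H.n2 a ha b hb nab ab
  obtain ⟨c, hc, d1, d2, d4, d5⟩ :
      {c | c ∈ L ∧ c ≠ a ∧ c ≠ b ∧ Commute c a ∧ Commute c b}.Nonempty := by
    apply Set.nonempty_of_ncard_ne_zero
    rw [h1]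
    norm_num
  exact ⟨c, exists_tet ha hb hc nab d1.symm d2.symm ab d4.symm d5.symm⟩

theorem exists_tet1 {a : Fi24} (ha : a ∈ L) : ∃ b c d, IsTet L (a * b * c * d) a b c d := by
  have H := TetBigInst.hyp
  have h1 := H.n1 a ha
  obtain ⟨b, hb, d1, d4⟩ : {c | c ∈ L ∧ c ≠ a ∧ Commute c a}.Nonempty := by
    apply Set.nonempty_of_ncard_ne_zero
    rw [h1]
    norm_num
  exact ⟨b, exists_tet2 ha hb d1.symm d4.symm⟩

/-- the involutions of `Fi24` -/
theorem exists_quad {t : Fi24} (htt : t * t = 1) (ht : t ≠ 1) :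
    ∃ a b c d, IsTet L (a * b * c * d) a b c d ∧ (t = a ∨ t = a * b ∨ t = a * b * c ∨ t = a * b * c * d) := by
  by_cases hK : t ∈ commutator Fi24
  · rcases OddHalf.D4.Spor.FiTF.facts.invol t hK htt ht with ⟨a, ha, b, hb, nab, cab, h3⟩ | ⟨a, b, c, d, h3⟩
    · obtain ⟨c, d, h⟩ := exists_tet2 ha hb nab cab
      exact ⟨a, b, c, d, h, Or.inr (Or.inl h3)⟩
    · refine ⟨a, b, c, d, ?_, Or.inr (Or.inr (Or.inr h3.prod.symm))⟩
      rw [h3.prod]
      exact h3
  · rcases outer_cases hK htt with ha | ⟨a, b, c, h, h3⟩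
    · obtain ⟨b, c, d, h⟩ := exists_tet1 ha
      exact ⟨t, b, c, d, h, Or.inl rfl⟩
    · obtain ⟨d, h4⟩ := exists_tet h.ha h.hb h.hc h.nab h.nac h.nbc h.ab h.ac h.bc
      exact ⟨a, b, c, d, h4, Or.inr (Or.inr (Or.inl h3))⟩

theorem comm_swap {i j k l : Fin 9} (h1 : i ≠ k) (h2 : i ≠ l) (h3 : j ≠ k) (h4 : j ≠ l) :
    Commute (Phi (swap i j)) (Phi (swap k l)) :=
  (show Commute (swap i j) (swap k l) from (Perm.disjoint_iff_disjoint_support.2 (by
    rw [Finset.disjoint_left]
    intro x hx hx'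
    rw [Perm.mem_support] at hx hx'
    have e1 : x = i ∨ x = j := by
      by_contra hcon
      push Not at hcon
      exact hx (swap_apply_of_ne_of_ne hcon.1 hcon.2)
    have e2 : x = k ∨ x = l := by
      by_contra hcon
      push Not at hcon
      exact hx' (swap_apply_of_ne_of_ne hcon.1 hcon.2)
    rcases e1 with rfl | rfl <;> rcases e2 with e2 | e2 <;> tauto)).commute).map Phi

/-- the standard quadruple -/
theorem tet0 : IsTet L (Phi (swap 0 1) * Phi (swap 2 3) * Phi (swap 4 5) * Phi (swap 6 7)) (Phi (swap 0 1))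
    (Phi (swap 2 3)) (Phi (swap 4 5)) (Phi (swap 6 7)) where
  ha := Phi_swap_mem_L (by decide)
  hb := Phi_swap_mem_L (by decide)
  hc := Phi_swap_mem_L (by decide)
  hd := Phi_swap_mem_L (by decide)
  ab := comm_swap (by decide) (by decide) (by decide) (by decide)
  ac := comm_swap (by decide) (by decide) (by decide) (by decide)
  ad := comm_swap (by decide) (by decide) (by decide) (by decide)
  bc := comm_swap (by decide) (by decide) (by decide) (by decide)
  bd := comm_swap (by decide) (by decide) (by decide) (by decide)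
  cd := comm_swap (by decide) (by decide) (by decide) (by decide)
  nab := fun h => absurd (Phi_injective h) (by decide)
  nac := fun h => absurd (Phi_injective h) (by decide)
  nad := fun h => absurd (Phi_injective h) (by decide)
  nbc := fun h => absurd (Phi_injective h) (by decide)
  nbd := fun h => absurd (Phi_injective h) (by decide)
  ncd := fun h => absurd (Phi_injective h) (by decide)
  prod := rfl

/-- every involution of `Fi24` is conjugate to an element of `S₉` -/
theorem exists_conj_Phi {t : Fi24} (htt : t * t = 1) (ht : t ≠ 1) :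
    ∃ (y : Fi24) (π : Perm (Fin 9)), t = y * Phi π * y⁻¹ := by
  obtain ⟨a, b, c, d, h, h1⟩ := exists_quad htt ht
  obtain ⟨y, -, e1, e2, e3, e4⟩ := TetBig.quad TetBigInst.hyp tet0 h
  rcases h1 with h1 | h1 | h1 | h1
  · exact ⟨y, swap 0 1, by rw [h1, e1]⟩
  · exact ⟨y, swap 0 1 * swap 2 3, by rw [h1, map_mul, TetBig.conj_mul, e1, e2]⟩
  · exact ⟨y, swap 0 1 * swap 2 3 * swap 4 5, by rw [h1, map_mul, map_mul, TetBig.conj_mul, TetBig.conj_mul, e1, e2, e3]⟩
  · exact ⟨y, swap 0 1 * swap 2 3 * swap 4 5 * swap 6 7, by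
      rw [h1, map_mul, map_mul, map_mul, TetBig.conj_mul, TetBig.conj_mul, TetBig.conj_mul, e1, e2, e3, e4]⟩

/-! ### The group `A₉` -/

theorem exists_two (i j : Fin 9) : ∃ k l : Fin 9, k ≠ l ∧ k ≠ i ∧ k ≠ j ∧ l ≠ i ∧ l ≠ j := by
  revert i j
  decide

/-- the centralizer of `A₉` in `S₉` is trivial -/
theorem eq_one_of_comm {π : Perm (Fin 9)} (h : ∀ a ∈ alternatingGroup (Fin 9), π * a * π⁻¹ = a) : π = 1 := by
  by_contra hne
  obtain ⟨i, hi⟩ : ∃ i, π i ≠ i := by
    by_contra hcon
    push Not at hcon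
    exact hne (Equiv.ext hcon)
  obtain ⟨k, l, h1, h2, h3, h4, h5⟩ := exists_two i (π i)
  have h6 : swap (π i) k * swap (π i) l ∈ alternatingGroup (Fin 9) := by
    rw [Perm.mem_alternatingGroup, map_mul, Perm.sign_swap h3.symm, Perm.sign_swap h5.symm]
    rfl
  have h7 := h _ h6
  rw [mul_inv_eq_iff_eq_mul] at h7
  have h8 := congrArg (fun f : Perm (Fin 9) => f i) h7
  simp only [Perm.mul_apply] at h8
  rw [swap_apply_of_ne_of_ne (Ne.symm hi) h4.symm, swap_apply_of_ne_of_ne (Ne.symm hi) h2.symm, swap_apply_left,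
    swap_apply_of_ne_of_ne h5 h1.symm] at h8
  exact h5 h8.symm

theorem card_A9 : Nat.card (alternatingGroup (Fin 9)) = 181440 := by
  have h := nat_card_alternatingGroup (α := Fin 9)
  rw [Nat.card_fin] at h
  rw [h]
  decide

/-- **no automorphism of order two of `Fi24'`** satisfies `PC s` -/
theorem main {s : ℕ} (hs : s = 3 ∨ s = 5 ∨ s = 7) {x : MulAut (commutator Fi24)} (hx : orderOf x = 2)
    (hPC : PC s x) : False := by
  have hfin := finite_Fi24
  obtain ⟨t, rfl⟩ := conj_surjective x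
  have htt : t * t = 1 := by
    apply Cfsg.Agent.H819.CubeFi24.conj_injective
    rw [map_mul, map_one, ← pow_two, ← hx, pow_orderOf_eq_one]
  have ht1 : t ≠ 1 := by
    rintro rfl
    rw [map_one, orderOf_one] at hx
    omega
  obtain ⟨y, π, rfl⟩ := exists_conj_Phi htt ht1
  let ψ : Perm (Fin 9) →* Fi24 := (MulAut.conj y).toMonoidHom.comp Phi
  have hψ : Function.Injective ψ := (MulAut.conj y).injective.comp Phi_injective
  have hψK : ∀ a ∈ alternatingGroup (Fin 9), ψ a ∈ commutator Fi24 := by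
    intro a ha
    have h1 : alternatingGroup (Fin 9) = commutator (Perm (Fin 9)) :=
      (alternatingGroup.commutator_perm_eq (by rw [Nat.card_fin]; norm_num)).symm
    rw [h1, _root_.commutator_def] at ha
    rw [_root_.commutator_def]
    have h2 : Subgroup.map ψ (⁅(⊤ : Subgroup (Perm (Fin 9))), (⊤ : Subgroup (Perm (Fin 9)))⁆) ≤
        (⁅(⊤ : Subgroup Fi24), (⊤ : Subgroup Fi24)⁆ : Subgroup Fi24) := by
      rw [map_commutator]
      exact commutator_mono le_top le_top
    exact h2 ⟨a, ha, rfl⟩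
  let φ : alternatingGroup (Fin 9) →* commutator Fi24 :=
    (ψ.comp (alternatingGroup (Fin 9)).subtype).codRestrict (commutator Fi24) fun a => hψK a a.2
  have hφ : Function.Injective φ := by
    intro a b h
    exact Subtype.ext (hψ (congrArg Subtype.val h))
  have hcoe : ∀ a, ((φ a : commutator Fi24) : Fi24) = y * Phi (a : Perm (Fin 9)) * y⁻¹ := fun a => rfl
  let e : alternatingGroup (Fin 9) ≃* φ.range := MonoidHom.ofInjective hφ
  have hcard : Nat.card φ.range = 181440 := by rw [← card_A9]; exact (Nat.card_congr e.toEquiv).symm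
  have hA : IsSimpleGroup (alternatingGroup (Fin 9)) := alternatingGroup.isSimpleGroup (by rw [Nat.card_fin]; norm_num)
  have hsi : IsSimpleGroup φ.range := e.isSimpleGroup_congr.1 hA
  have hM : φ.range ≠ ⊤ := by
    intro h
    rw [h, Subgroup.card_top, card_commutator] at hcard
    norm_num at hcard
  have hsp : s.Prime := by rcases hs with rfl | rfl | rfl <;> norm_num
  have hd : s ∣ Nat.card φ.range := by rw [hcard]; rcases hs with rfl | rfl | rfl <;> norm_num
  have hact : ∀ a : alternatingGroup (Fin 9), ∃ b : alternatingGroup (Fin 9),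
      MulAut.conjNormal (y * Phi π * y⁻¹) (φ a) = φ b ∧ (b : Perm (Fin 9)) = π * a * π⁻¹ := by
    intro a
    refine ⟨⟨π * a * π⁻¹, (inferInstance : (alternatingGroup (Fin 9)).Normal).conj_mem a a.2 π⟩, ?_, rfl⟩
    apply Subtype.ext
    rw [MulAut.conjNormal_apply, hcoe, hcoe]
    show _ = y * Phi (π * a * π⁻¹) * y⁻¹
    rw [map_mul, map_mul, map_inv]
    group
  have hinv : ∀ m ∈ φ.range, MulAut.conjNormal (y * Phi π * y⁻¹) m ∈ φ.range := by
    rintro _ ⟨a, rfl⟩
    obtain ⟨b, hb, -⟩ := hact a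
    exact ⟨b, hb.symm⟩
  have hπ : π = 1 := by
    apply eq_one_of_comm
    intro a ha
    obtain ⟨b, hb, hb'⟩ := hact ⟨a, ha⟩
    have h1 := hPC.eq_of_simple hsp hM hinv hsi hd (m := φ ⟨a, ha⟩) ⟨_, rfl⟩
    rw [hb] at h1
    rw [← hb', hφ h1]
  apply ht1
  rw [hπ, map_one]
  group

/-- **`Fi24'`, `p = 2` and the outer involutions** (S4324) -/
theorem ni_Fi24_2 {K : Type u} [Group K] [Finite K] (h : Spor.IsoFi24' K) {s : ℕ} (hs : s = 3 ∨ s = 5 ∨ s = 7) :
    NI s 2 K ∧ NO s K := by
  obtain ⟨e⟩ := h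
  have hfin := finite_Fi24
  have hc : center (commutator Fi24) = ⊥ := by
    rw [eq_bot_iff]
    intro g hg
    rw [mem_bot]
    apply Subtype.ext
    apply Cfsg.Agent.H819.CubeFi24.conj_injective
    rw [OneMemClass.coe_one, map_one]
    apply MulEquiv.ext
    intro k
    apply Subtype.ext
    rw [MulAut.conjNormal_apply, MulAut.one_apply, mul_inv_eq_iff_eq_mul]
    exact congrArg Subtype.val (mem_center_iff.1 hg k).symm
  constructor
  · have h1 : NI s 2 (commutator Fi24) := fun g hg hPC _ =>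
      main hs (by rw [orderOf_injective MulAut.conj (conj_inj hc), hg]) hPC
    exact h1.congr e.symm
  · have h1 : NO s (commutator Fi24) := fun x hx _ hPC _ => main hs hx hPC
    exact h1.congr e.symm

end Cfsg.Agent.H559.PiSpor
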